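import Groth.Agent.H7Weitz.Sl2

/-!
Every nilpotent endomorphism is the raising operator of an `sl₂` triple with integral weights.
-/

set_option autoImplicit false
universe u v

namespace Groth.Agent.H7Weitz

open Polynomial

variable {k : Type u} [Field k] {V : Type u} [AddCommGroup V] [Module k V] [FiniteDimensional k V]

/-- a Jordan chain basis of a nilpotent endomorphism. -/
theorem exists_chain_basis (N : Module.End k V) (hN : IsNilpotent N) :
    ∃ (r : ℕ) (len : Fin r → ℕ) (b : Module.Basis (Σ i, Fin (len i)) k V),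
      ∀ (i : Fin r) (l : Fin (len i)),
        N (b ⟨i, l⟩) = if h : l.1 + 1 < len i then b ⟨i, ⟨l.1 + 1, h⟩⟩ else 0 := by
  classical
  obtain ⟨n, hn⟩ := hN
  have htor : Module.IsTorsion' (Module.AEval' N) (Submonoid.powers (X : k[X])) := by
    intro x
    obtain ⟨v, rfl⟩ := (Module.AEval'.of N).surjective x
    refine ⟨⟨X ^ n, n, rfl⟩, ?_⟩
    show (X : k[X]) ^ n • Module.AEval'.of N v = 0
    rw [Module.AEval'.X_pow_smul_of, hn]
    exact map_zero (Module.AEval'.of N)
  obtain ⟨r, len, ⟨φ⟩⟩ := Module.torsion_by_prime_power_decomposition (R := k[X])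
    (M := Module.AEval' N) (p := X) Polynomial.irreducible_X htor
  let φk := φ.restrictScalars k
  have hmon : ∀ i, ((X : k[X]) ^ len i).Monic := fun i => monic_X_pow _
  let pb : ∀ i, Module.Basis (Fin (len i)) k (k[X] ⧸ k[X] ∙ (X : k[X]) ^ len i) := fun i =>
    ((AdjoinRoot.powerBasisAux' (hmon i)).reindex (finCongr (natDegree_X_pow _)) :)
  have hpb : ∀ i (l : Fin (len i)), pb i l = Submodule.Quotient.mk ((X : k[X]) ^ l.1) := by
    intro i l
    show ((AdjoinRoot.powerBasisAux' (hmon i)).reindex (finCongr (natDegree_X_pow _))) l = _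
    rw [Module.Basis.reindex_apply]
    have h := (AdjoinRoot.powerBasis' (hmon i)).basis_eq_pow
      ((finCongr (natDegree_X_pow (R := k) _)).symm l)
    refine (Eq.trans ?_ h).trans ?_
    · rfl
    · rw [AdjoinRoot.powerBasis'_gen]
      show (AdjoinRoot.root _) ^ l.1 = _
      rw [← AdjoinRoot.mk_X, ← map_pow]
      rfl
  let B : Module.Basis (Σ i, Fin (len i)) k V :=
    (DFinsupp.basis pb).map (φk.symm.trans (Module.AEval'.of N).symm)
  refine ⟨r, len, B, fun i l => ?_⟩
  have hB : ∀ (j : Fin r) (q : Fin (len j)), Module.AEval'.of N (B ⟨j, q⟩) =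
      φ.symm (DirectSum.lof k[X] (Fin r) (fun i => k[X] ⧸ k[X] ∙ (X : k[X]) ^ len i) j
        (Submodule.Quotient.mk ((X : k[X]) ^ q.1))) := by
    intro j q
    have hb : (DFinsupp.basis pb) ⟨j, q⟩ = DFinsupp.single j (pb j q) := by
      rw [DFinsupp.basis]
      simp [Module.Basis.coe_ofRepr]
    simp only [B, Module.Basis.map_apply, LinearEquiv.trans_apply, LinearEquiv.apply_symm_apply,
      hb, hpb]
    rfl
  apply (Module.AEval'.of N).injective
  rw [← Module.AEval'.X_smul_of, hB, ← map_smul, ← map_smul, ← Submodule.Quotient.mk_smul,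
    smul_eq_mul, ← pow_succ']
  split_ifs with h
  · rw [hB]
  · rw [map_zero (Module.AEval'.of N)]
    have hz : (Submodule.Quotient.mk ((X : k[X]) ^ (l.1 + 1)) :
        k[X] ⧸ k[X] ∙ (X : k[X]) ^ len i) = 0 := by
      rw [Submodule.Quotient.mk_eq_zero, Submodule.mem_span_singleton]
      refine ⟨X ^ (l.1 + 1 - len i), ?_⟩
      rw [smul_eq_mul, ← pow_add]
      congr 1
      omega
    rw [hz, map_zero, map_zero]

theorem exists_triple (N : Module.End k V) (hN : IsNilpotent N) :
    ∃ t : Triple k V, t.E = N ∧ t.Spans := by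
  classical
  obtain ⟨r, len, b, hb⟩ := exists_chain_basis N hN
  let H : Module.End k V := b.constr k fun p => ((2 * (p.2.1 : ℤ) + 1 - len p.1 : ℤ) : k) • b p
  let F : Module.End k V := b.constr k fun p =>
    if h : 0 < p.2.1 then ((p.2.1 : k) * ((len p.1 : k) - p.2.1)) • b ⟨p.1, ⟨p.2.1 - 1, by omega⟩⟩
    else 0
  have hH : ∀ i (l : Fin (len i)),
      H (b ⟨i, l⟩) = ((2 * (l.1 : ℤ) + 1 - len i : ℤ) : k) • b ⟨i, l⟩ := fun i l => by simp [H]
  have hF : ∀ i (l : Fin (len i)), F (b ⟨i, l⟩) = if h : 0 < l.1 then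
      ((l.1 : k) * ((len i : k) - l.1)) • b ⟨i, ⟨l.1 - 1, by omega⟩⟩ else 0 := fun i l => by
    simp only [F, Module.Basis.constr_basis]
  have h1 : H * N = N * H + (2 : k) • N := b.ext fun ⟨i, l⟩ => by
    simp only [Module.End.mul_apply, LinearMap.add_apply, LinearMap.smul_apply, hH, map_smul, hb]
    split_ifs with h
    · rw [hH, ← add_smul]; congr 1; push_cast; ring
    · simp
  have h2 : H * F = F * H - (2 : k) • F := b.ext fun ⟨i, l⟩ => by
    simp only [Module.End.mul_apply, LinearMap.sub_apply, LinearMap.smul_apply, hH, map_smul, hF]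
    split_ifs with h
    · rw [map_smul, hH]
      rw [smul_smul, smul_smul, smul_smul, ← sub_smul]
      congr 1
      simp only
      have hl : ((l.1 - 1 : ℕ) : k) = (l.1 : k) - 1 := by
        rw [Nat.cast_sub (by omega)]; simp
      push_cast [hl]
      ring
    · simp
  have h3 : N * F = F * N + H := b.ext fun ⟨i, l⟩ => by
    simp only [Module.End.mul_apply, LinearMap.add_apply, hH, hF, hb]
    have hl := l.2
    split_ifs with h h' h'
    · rw [map_smul, hb, dif_pos (show l.1 - 1 + 1 < len i by omega), hF, dif_pos (by simp)]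
      have e1 : (⟨l.1 - 1 + 1, by omega⟩ : Fin (len i)) = l := Fin.ext (show l.1 - 1 + 1 = l.1 by omega)
      have e2 : (⟨l.1 + 1 - 1, by omega⟩ : Fin (len i)) = l := Fin.ext (show l.1 + 1 - 1 = l.1 by omega)
      simp only [e1, e2]
      rw [← add_smul]; congr 1; push_cast; ring
    · rw [map_smul, hb, dif_pos (show l.1 - 1 + 1 < len i by omega), map_zero, zero_add]
      have e1 : (⟨l.1 - 1 + 1, by omega⟩ : Fin (len i)) = l := Fin.ext (show l.1 - 1 + 1 = l.1 by omega)
      simp only [e1]
      congr 1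
      have e : (len i : k) = l.1 + 1 := (congrArg (Nat.cast (R := k)) (show len i = l.1 + 1 by omega)).trans (by simp)
      push_cast; rw [e]; ring
    · rw [map_zero, hF, dif_pos (by simp)]
      have e2 : (⟨l.1 + 1 - 1, by omega⟩ : Fin (len i)) = l := Fin.ext (show l.1 + 1 - 1 = l.1 by omega)
      simp only [e2]
      rw [← add_smul]
      have e0 : (l.1 : k) = 0 := by rw [show l.1 = 0 by omega]; simp
      symm
      rw [smul_eq_zero]
      left
      push_cast; rw [e0]; ring
    · rw [map_zero, map_zero, zero_add]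
      have e0 : (l.1 : k) = 0 := by rw [show l.1 = 0 by omega]; simp
      have e : (len i : k) = 1 := by rw [show len i = 1 by omega]; simp
      symm
      rw [smul_eq_zero]
      left
      push_cast; rw [e0, e]; ring
  refine ⟨⟨N, H, F, fun x => DFunLike.congr_fun h1 x, fun x => DFunLike.congr_fun h2 x,
    fun x => DFunLike.congr_fun h3 x⟩, rfl, ?_⟩
  refine eq_top_iff.mpr (b.span_eq.ge.trans (Submodule.span_le.mpr ?_))
  rintro _ ⟨⟨i, l⟩, rfl⟩
  exact Submodule.mem_iSup_of_mem (2 * (l.1 : ℤ) + 1 - len i)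
    (Module.End.mem_eigenspace_iff.mpr (hH i l))

end Groth.Agent.H7Weitz
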