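import Groth.Agent.H7Weitz.Sl2

/-!
`sl₂` acting by linear derivations on a polynomial ring.
-/

set_option autoImplicit false
universe u

namespace Groth.Agent.H7Weitz
open MvPolynomial

variable {k : Type u} [Field k] {σ : Type} [Fintype σ] [DecidableEq σ]

/-- the linear form with coefficient vector `v`. -/
noncomputable def lin : (σ → k) →ₗ[k] MvPolynomial σ k :=
  ∑ i, (LinearMap.proj i).smulRight (X i)

omit [DecidableEq σ] in
theorem lin_apply (v : σ → k) : lin v = ∑ i, v i • (X i : MvPolynomial σ k) := by
  simp [lin]

theorem lin_single (j : σ) : lin (Pi.single j (1 : k)) = X j := by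
  rw [lin_apply, Finset.sum_eq_single j (fun b _ hb => by simp [hb]) (by simp)]
  simp

omit [DecidableEq σ] in
theorem lin_isHomogeneous (v : σ → k) : (lin v).IsHomogeneous 1 := by
  rw [lin_apply]
  exact (homogeneousSubmodule σ k 1).sum_mem fun i _ =>
    (homogeneousSubmodule σ k 1).smul_mem _ (isHomogeneous_X k i)

/-- the derivation of a linear substitution. -/
noncomputable def der (g : Module.End k (σ → k)) :
    Derivation k (MvPolynomial σ k) (MvPolynomial σ k) :=
  mkDerivation k fun j => lin (g (Pi.single j 1))

theorem der_X (g : Module.End k (σ → k)) (j : σ) : der g (X j) = lin (g (Pi.single j 1)) := by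
  simp [der, mkDerivation_X]

theorem der_lin (g : Module.End k (σ → k)) (v : σ → k) : der g (lin v) = lin (g v) := by
  conv_rhs => rw [pi_eq_sum_univ' v]
  simp only [lin_apply v, map_sum, map_smul, Derivation.map_smul, der_X]

theorem der_comm (g h : Module.End k (σ → k)) (x : MvPolynomial σ k) :
    der g (der h x) - der h (der g x) = der (g * h - h * g) x := by
  have : ⁅der g, der h⁆ = der (g * h - h * g) := derivation_ext fun j => by
    rw [Derivation.commutator_apply, der_X, der_X, der_lin, der_lin, der_X, ← map_sub]
    rfl
  rw [← this, Derivation.commutator_apply]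

theorem der_add_smul (g h : Module.End k (σ → k)) (c : k) (x : MvPolynomial σ k) :
    der (g + c • h) x = der g x + c • der h x := by
  have : der (g + c • h) = der g + c • der h := derivation_ext fun j => by
    simp [der_X]
  rw [this]; rfl

theorem der_mem (g : Module.End k (σ → k)) {d : ℕ} {x : MvPolynomial σ k}
    (hx : x ∈ homogeneousSubmodule σ k d) : der g x ∈ homogeneousSubmodule σ k d := by
  rw [x.as_sum, map_sum]
  refine Submodule.sum_mem _ fun D hD => ?_
  have hdeg : D.degree = d := by
    by_contra h
    exact mem_support_iff.mp hD (IsHomogeneous.coeff_eq_zero hx h)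
  rw [der, mkDerivation_monomial]
  refine Submodule.smul_mem _ _ (Submodule.sum_mem _ fun i hi => ?_)
  show monomial (D - Finsupp.single i 1) (D i : k) * lin (g (Pi.single i 1)) ∈ _
  have hi' : 1 ≤ D i := Nat.one_le_iff_ne_zero.mpr (Finsupp.mem_support_iff.mp hi)
  have hle : Finsupp.single i 1 ≤ D := Finsupp.single_le_iff.mpr hi'
  have h1 : (monomial (D - Finsupp.single i 1) (D i : k)).IsHomogeneous (d - 1) := by
    refine isHomogeneous_monomial _ ?_
    have := congrArg Finsupp.degree (tsub_add_cancel_of_le hle)
    rw [map_add, Finsupp.degree_single, hdeg] at this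
    omega
  have h2 := h1.mul (lin_isHomogeneous (g (Pi.single i 1)))
  have hd : d - 1 + 1 = d := by
    have := Finsupp.le_degree i D
    omega
  rwa [hd] at h2

theorem der_homogeneousComponent (g : Module.End k (σ → k)) (d : ℕ) (x : MvPolynomial σ k) :
    homogeneousComponent d (der g x) = der g (homogeneousComponent d x) := by
  conv_lhs => rw [← sum_homogeneousComponent x]
  rw [map_sum, map_sum]
  simp only [fun j => homogeneousComponent_of_mem (m := d) (n := j)
    (der_mem g (homogeneousComponent_mem j x))]
  rw [Finset.sum_ite_eq]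
  split_ifs with h
  · rfl
  · rw [homogeneousComponent_eq_zero d x (by rw [Finset.mem_range] at h; omega), map_zero]

variable (t : Triple k (σ → k))

/-- the action on polynomials. -/
noncomputable def Triple.poly : Triple k (MvPolynomial σ k) where
  E := (der t.E).toLinearMap
  H := (der t.H).toLinearMap
  F := (der t.F).toLinearMap
  he x := by
    have h : t.H * t.E - t.E * t.H = 0 + (2 : k) • t.E := LinearMap.ext fun v => by
      simp [t.he]
    have h' := der_comm t.H t.E x
    rw [h, der_add_smul] at h'
    have h0 : der (0 : Module.End k (σ → k)) x = 0 := by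
      have : der (0 : Module.End k (σ → k)) = 0 := derivation_ext fun j => by simp [der_X]
      rw [this]; rfl
    rw [h0, zero_add, sub_eq_iff_eq_add] at h'
    show der t.H (der t.E x) = der t.E (der t.H x) + _
    rw [h', add_comm]
    rfl
  hf x := by
    have h : t.H * t.F - t.F * t.H = 0 + (-2 : k) • t.F := LinearMap.ext fun v => by
      simp [t.hf]
    have h' := der_comm t.H t.F x
    rw [h, der_add_smul] at h'
    have h0 : der (0 : Module.End k (σ → k)) x = 0 := by
      have : der (0 : Module.End k (σ → k)) = 0 := derivation_ext fun j => by simp [der_X]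
      rw [this]; rfl
    rw [h0, zero_add, sub_eq_iff_eq_add] at h'
    show der t.H (der t.F x) = der t.F (der t.H x) - _
    rw [h']
    simp only [neg_smul, Derivation.coeFn_coe]
    abel
  ef x := by
    have h : t.E * t.F - t.F * t.E = t.H := LinearMap.ext fun v => by
      simp [t.ef]
    have h' := der_comm t.E t.F x
    rw [h, sub_eq_iff_eq_add] at h'
    show der t.E (der t.F x) = der t.F (der t.E x) + _
    rw [h', add_comm]
    rfl

/-- the action on a graded piece. -/
noncomputable def Triple.piece (d : ℕ) : Triple k (homogeneousSubmodule σ k d) where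
  E := t.poly.E.restrict fun _ hx => der_mem t.E hx
  H := t.poly.H.restrict fun _ hx => der_mem t.H hx
  F := t.poly.F.restrict fun _ hx => der_mem t.F hx
  he x := Subtype.ext (t.poly.he x.1)
  hf x := Subtype.ext (t.poly.hf x.1)
  ef x := Subtype.ext (t.poly.ef x.1)

instance finiteDimensional_piece (d : ℕ) : FiniteDimensional k (homogeneousSubmodule σ k d) :=
  Submodule.finiteDimensional_of_le (S₂ := MvPolynomial.restrictTotalDegree σ k d) fun f hf => by
    rw [mem_restrictTotalDegree]
    exact IsHomogeneous.totalDegree_le hf

theorem Triple.poly_spans (hs : t.Spans) : t.poly.Spans := by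
  let A := ⨆ r : ℤ, Module.End.eigenspace t.poly.H (r : k)
  have hone : (1 : MvPolynomial σ k) ∈ A :=
    Submodule.mem_iSup_of_mem 0 (Module.End.mem_eigenspace_iff.mpr (by
      show der t.H 1 = _
      simp))
  have hmul : ∀ x ∈ A, ∀ y ∈ A, x * y ∈ A := by
    intro x hx y hy
    refine Submodule.iSup_induction _ (motive := fun x => x * y ∈ A) hx (fun r x hx => ?_)
      (by simp) (fun a b ha hb => by rw [add_mul]; exact add_mem ha hb)
    refine Submodule.iSup_induction _ (motive := fun y => x * y ∈ A) hy (fun s y hy => ?_)
      (by simp) (fun a b ha hb => by rw [mul_add]; exact add_mem ha hb)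
    refine Submodule.mem_iSup_of_mem (r + s) (Module.End.mem_eigenspace_iff.mpr ?_)
    show der t.H (x * y) = _
    rw [Derivation.leibniz, show der t.H x = (r : k) • x from Module.End.mem_eigenspace_iff.mp hx,
      show der t.H y = (s : k) • y from Module.End.mem_eigenspace_iff.mp hy]
    simp only [smul_eq_mul, mul_smul_comm, Int.cast_add, add_smul]
    rw [mul_comm y x, add_comm]
  have hlin : ∀ v, lin v ∈ A := by
    intro v
    have hv : v ∈ ⨆ r : ℤ, Module.End.eigenspace t.H (r : k) := by rw [hs]; trivial
    refine Submodule.iSup_induction _ (motive := fun v => lin v ∈ A) hv (fun r v hv => ?_)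
      (by simp) (fun a b ha hb => by rw [map_add]; exact add_mem ha hb)
    refine Submodule.mem_iSup_of_mem r (Module.End.mem_eigenspace_iff.mpr ?_)
    show der t.H (lin v) = _
    rw [der_lin, Module.End.mem_eigenspace_iff.mp hv, map_smul]
  refine eq_top_iff.mpr fun p _ => ?_
  induction p using MvPolynomial.induction_on with
  | C c =>
    rw [show (C c : MvPolynomial σ k) = c • (1 : MvPolynomial σ k) by simp [smul_eq_C_mul]]
    exact A.smul_mem c hone
  | add p q hp hq => exact add_mem (hp trivial) (hq trivial)
  | mul_X p j hp => exact hmul _ (hp trivial) _ (lin_single (k := k) j ▸ hlin _)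

theorem Triple.piece_spans (hs : t.Spans) (d : ℕ) : (t.piece d).Spans := by
  refine eq_top_iff.mpr fun x _ => ?_
  obtain ⟨s, f, hf, hx⟩ := t.poly.exists_components (t.poly_spans hs) x.1
  have hx' : x = ∑ r ∈ s, (⟨homogeneousComponent d (f r), homogeneousComponent_mem d _⟩ :
      homogeneousSubmodule σ k d) := by
    refine Subtype.ext ?_
    rw [Submodule.coe_sum]
    show x.1 = ∑ r ∈ s, homogeneousComponent d (f r)
    rw [← map_sum, hx, homogeneousComponent_of_mem x.2, if_pos rfl]
  rw [hx']
  refine Submodule.sum_mem _ fun r hr => Submodule.mem_iSup_of_mem r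
    (Module.End.mem_eigenspace_iff.mpr (Subtype.ext ?_))
  show der t.H (homogeneousComponent d (f r)) = (r : k) • homogeneousComponent d (f r)
  rw [← der_homogeneousComponent, show der t.H (f r) = _ from hf r hr, map_smul]

end Groth.Agent.H7Weitz
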