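import Mathlib

/-!
Finite-dimensional `sl₂`-representations with diagonalisable integral `H`: the Casimir operator
splits off the invariants; primitive vectors.
-/

set_option autoImplicit false
universe u v

namespace Groth.Agent.H7Weitz

/-- an `sl₂` triple of endomorphisms. -/
structure Triple (k : Type u) (W : Type v) [CommRing k] [AddCommGroup W] [Module k W] where
  E : Module.End k W
  H : Module.End k W
  F : Module.End k W
  he : ∀ x, H (E x) = E (H x) + (2 : k) • E x
  hf : ∀ x, H (F x) = F (H x) - (2 : k) • F x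
  ef : ∀ x, E (F x) = F (E x) + H x

variable {k : Type u} [Field k] {W : Type v} [AddCommGroup W] [Module k W]

/-- the integral weight spaces of `H` span. -/
def Triple.Spans (t : Triple k W) : Prop := ⨆ r : ℤ, Module.End.eigenspace t.H (r : k) = ⊤

/-- invariant vectors. -/
def Triple.inv (t : Triple k W) : Submodule k W :=
  LinearMap.ker t.E ⊓ LinearMap.ker t.H ⊓ LinearMap.ker t.F

/-- the Casimir operator. -/
def Triple.casimir (t : Triple k W) : Module.End k W :=
  t.H * t.H + (2 : k) • t.H + (4 : k) • (t.F * t.E)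

variable (t : Triple k W)

theorem Triple.mem_inv {x : W} : x ∈ t.inv ↔ t.E x = 0 ∧ t.H x = 0 ∧ t.F x = 0 := by
  simp [Triple.inv, and_assoc]

theorem Triple.casimir_apply (x : W) :
    t.casimir x = t.H (t.H x) + (2 : k) • t.H x + (4 : k) • t.F (t.E x) := rfl

theorem Triple.H_E {x : W} {μ : k} (hx : t.H x = μ • x) : t.H (t.E x) = (μ + 2) • t.E x := by
  rw [t.he, hx, map_smul, add_smul]

theorem Triple.H_F {x : W} {μ : k} (hx : t.H x = μ • x) : t.H (t.F x) = (μ - 2) • t.F x := by
  rw [t.hf, hx, map_smul, sub_smul]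

theorem Triple.casimir_E (x : W) : t.casimir (t.E x) = t.E (t.casimir x) := by
  have hEF := t.ef (t.E x)
  simp only [t.casimir_apply, map_add, map_smul]
  have h1 : t.E (t.H (t.H x)) = t.H (t.H (t.E x)) - (4 : k) • t.H (t.E x) + (4 : k) • t.E x := by
    simp only [t.he, map_add, map_smul]
    module
  have h2 : t.E (t.H x) = t.H (t.E x) - (2 : k) • t.E x := by rw [t.he]; abel
  rw [h1, h2, hEF]
  module

variable [CharZero k]

theorem Triple.exists_pow_E_eq_zero [FiniteDimensional k W] {x : W} {μ : k}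
    (hx : t.H x = μ • x) : ∃ j : ℕ, (t.E ^ j) x = 0 := by
  by_contra! hc
  have hw : ∀ j : ℕ, t.H ((t.E ^ j) x) = (μ + 2 * j) • (t.E ^ j) x := by
    intro j
    induction j with
    | zero => simpa using hx
    | succ j ih =>
      rw [pow_succ', Module.End.mul_apply, t.H_E ih]
      congr 1; push_cast; ring
  have hli := Module.End.eigenvectors_linearIndependent' t.H (fun j : ℕ => μ + 2 * j)
    (fun a b h => by
      have : (2 : k) * a = 2 * b := add_left_cancel h
      exact_mod_cast mul_left_cancel₀ two_ne_zero this)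
    (fun j => (t.E ^ j) x) (fun j => Module.End.hasEigenvector_iff.mpr
      ⟨Module.End.mem_eigenspace_iff.mpr (hw j), hc j⟩)
  exact not_finite_iff_infinite.mpr inferInstance (hli.finite : Finite ℕ)

theorem Triple.exists_pow_F_eq_zero [FiniteDimensional k W] {x : W} {μ : k}
    (hx : t.H x = μ • x) : ∃ j : ℕ, (t.F ^ j) x = 0 := by
  by_contra! hc
  have hw : ∀ j : ℕ, t.H ((t.F ^ j) x) = (μ - 2 * j) • (t.F ^ j) x := by
    intro j
    induction j with
    | zero => simpa using hx
    | succ j ih =>
      rw [pow_succ', Module.End.mul_apply, t.H_F ih]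
      congr 1; push_cast; ring
  have hli := Module.End.eigenvectors_linearIndependent' t.H (fun j : ℕ => μ - 2 * j)
    (fun a b h => by
      have : (2 : k) * a = 2 * b := sub_right_injective h
      exact_mod_cast mul_left_cancel₀ two_ne_zero this)
    (fun j => (t.F ^ j) x) (fun j => Module.End.hasEigenvector_iff.mpr
      ⟨Module.End.mem_eigenspace_iff.mpr (hw j), hc j⟩)
  exact not_finite_iff_infinite.mpr inferInstance (hli.finite : Finite ℕ)

omit [CharZero k] in
theorem Triple.E_pow_F {x : W} {μ : k} (hx : t.H x = μ • x) (hE : t.E x = 0) (i : ℕ) :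
    t.E ((t.F ^ (i + 1)) x) = ((i + 1 : k) * (μ - i)) • (t.F ^ i) x ∧
      t.H ((t.F ^ i) x) = (μ - 2 * i) • (t.F ^ i) x := by
  induction i with
  | zero => exact ⟨by simp [t.ef, hE, hx], by simpa using hx⟩
  | succ i ih =>
    have hH : t.H ((t.F ^ (i + 1)) x) = (μ - 2 * ((i + 1 : ℕ) : k)) • (t.F ^ (i + 1)) x := by
      rw [pow_succ', Module.End.mul_apply, t.H_F ih.2]
      congr 1; push_cast; ring
    refine ⟨?_, hH⟩
    conv_lhs => rw [pow_succ', Module.End.mul_apply, t.ef, ih.1, hH, map_smul,
      ← Module.End.mul_apply, ← pow_succ', ← add_smul]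
    congr 1; push_cast; ring

/-- a primitive vector has natural weight `N` and a string of length `N + 1`. -/
theorem Triple.exists_nat_weight [FiniteDimensional k W] {x : W} {μ : k} (h0 : x ≠ 0)
    (hx : t.H x = μ • x) (hE : t.E x = 0) : ∃ N : ℕ, μ = N ∧ (t.F ^ (N + 1)) x = 0 := by
  classical
  have h := t.exists_pow_F_eq_zero hx
  have h1 := Nat.find_spec h
  obtain ⟨N, hN⟩ : ∃ N, Nat.find h = N + 1 := by
    refine Nat.exists_eq_succ_of_ne_zero fun hz => h0 ?_
    rw [hz] at h1; simpa using h1
  have hmin : (t.F ^ N) x ≠ 0 := Nat.find_min h (by omega)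
  rw [hN] at h1
  have hE1 := (t.E_pow_F hx hE N).1
  rw [h1, map_zero] at hE1
  refine ⟨N, ?_, h1⟩
  rcases smul_eq_zero.mp hE1.symm with h2 | h2
  · rcases mul_eq_zero.mp h2 with h3 | h3
    · exact absurd h3 (Nat.cast_add_one_ne_zero N)
    · exact sub_eq_zero.mp h3
  · exact absurd h2 hmin

theorem Triple.eq_zero_of_casimir {x : W} {μ : k} [FiniteDimensional k W]
    (hx : t.H x = μ • x) (hC : t.casimir x = 0) : μ = 0 ∧ x ∈ t.inv ∨ x = 0 := by
  classical
  by_cases h0 : x = 0
  · exact Or.inr h0
  left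
  -- top of the string
  have h := t.exists_pow_E_eq_zero hx
  obtain ⟨j, hj⟩ : ∃ j, Nat.find h = j + 1 := by
    refine Nat.exists_eq_succ_of_ne_zero fun hz => h0 ?_
    have h1 := Nat.find_spec h
    rw [hz] at h1; simpa using h1
  have htop : t.E ((t.E ^ j) x) = 0 := by
    rw [← Module.End.mul_apply, ← pow_succ', ← hj]; exact Nat.find_spec h
  have hne : (t.E ^ j) x ≠ 0 := Nat.find_min h (by omega)
  have hw : ∀ i : ℕ, t.H ((t.E ^ i) x) = (μ + 2 * i) • (t.E ^ i) x ∧
      t.casimir ((t.E ^ i) x) = 0 := by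
    intro i
    induction i with
    | zero => exact ⟨by simpa using hx, by simpa using hC⟩
    | succ i ih =>
      rw [pow_succ', Module.End.mul_apply]
      refine ⟨?_, by rw [t.casimir_E, ih.2, map_zero]⟩
      rw [t.H_E ih.1]; congr 1; push_cast; ring
  obtain ⟨hwj, hCj⟩ := hw j
  obtain ⟨N, hN, hFN⟩ := t.exists_nat_weight hne hwj htop
  rw [t.casimir_apply, htop, map_zero, smul_zero, add_zero, hwj, map_smul, hwj, smul_smul,
    smul_smul, ← add_smul, hN] at hCj
  have hN0 : N = 0 := by
    rcases smul_eq_zero.mp hCj with h2 | h2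
    · have : ((N * N + 2 * N : ℕ) : k) = 0 := by push_cast; exact h2
      have := Nat.cast_eq_zero.mp this
      omega
    · exact absurd h2 hne
  subst hN0
  -- so the string is a single vector
  rcases Nat.eq_zero_or_pos j with rfl | hjpos
  · have hμ : μ = 0 := by simpa using hN
    refine ⟨hμ, t.mem_inv.mpr ⟨by simpa using htop, by rw [hx, hμ, zero_smul], ?_⟩⟩
    simpa using hFN
  · exfalso
    obtain ⟨i, rfl⟩ : ∃ i, j = i + 1 := ⟨j - 1, by omega⟩
    -- `y` of weight `-2` mapped by `E` to a vector killed by `F`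
    set y := (t.E ^ i) x with hy
    obtain ⟨hwy, hCy⟩ := hw i
    rw [← hy] at hwy hCy
    have hμi : μ + 2 * (i : k) = -2 := by
      have : μ + 2 * ((i + 1 : ℕ) : k) = 0 := by simpa using hN
      push_cast at this
      linear_combination this
    rw [hμi] at hwy
    have hFEy : t.F (t.E y) = 0 := by
      have : t.E y = (t.E ^ (i + 1)) x := by rw [pow_succ', Module.End.mul_apply]
      rw [this]
      simpa using hFN
    rw [t.casimir_apply, hFEy, smul_zero, add_zero, hwy, map_smul, hwy, smul_smul, smul_smul,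
      ← add_smul] at hCy
    -- weight `-2`: look at the bottom
    have hy0 : y ≠ 0 := fun hz => hne (by rw [pow_succ', Module.End.mul_apply, ← hy, hz, map_zero])
    -- `F` lowers: use the mirrored triple
    let t' : Triple k W :=
      { E := t.F, H := -t.H, F := t.E
        he := fun z => by simp only [LinearMap.neg_apply, t.hf, map_neg]; abel
        hf := fun z => by simp only [LinearMap.neg_apply, t.he, map_neg]; abel
        ef := fun z => by simp only [LinearMap.neg_apply, t.ef]; abel }
    -- `[E, F] y = H y` forces a nonzero vector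
    have h2 : t.E (t.F y) = t.F (t.E y) + t.H y := t.ef y
    rw [hFEy, zero_add, hwy] at h2
    have hH'' : t'.H (t.F y) = ((4 : ℕ) : k) • t.F y := by
      show -(t.H (t.F y)) = _
      rw [t.H_F hwy, ← neg_smul]
      norm_num
    obtain ⟨l, hl⟩ := t'.exists_pow_E_eq_zero hH''
    -- top of the mirrored string through `F y`
    have hex : ∃ l, (t'.E ^ l) (t.F y) = 0 := ⟨l, hl⟩
    obtain ⟨q, hq⟩ : ∃ q, Nat.find hex = q + 1 := by
      refine Nat.exists_eq_succ_of_ne_zero fun hz => ?_
      have h1 := Nat.find_spec hex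
      rw [hz] at h1
      have hFy0 : t.F y = 0 := by simpa using h1
      rw [hFy0, map_zero] at h2
      rcases smul_eq_zero.mp h2.symm with h5 | h5
      · norm_num at h5
      · exact hy0 h5
    have hqne := Nat.find_min hex (show q < Nat.find hex by omega)
    have hqw : ∀ r : ℕ, t'.H ((t'.E ^ r) (t.F y)) = ((4 + 2 * r : ℕ) : k) • (t'.E ^ r) (t.F y) ∧
        t'.casimir ((t'.E ^ r) (t.F y)) = t'.E ((fun s => (t'.E ^ s) (t'.casimir y)) r) := by
      intro r
      induction r with
      | zero =>
        refine ⟨by simpa using hH'', ?_⟩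
        simp only [pow_zero, Module.End.one_apply]
        exact t'.casimir_E y
      | succ r ih =>
        refine ⟨?_, ?_⟩
        · rw [pow_succ', Module.End.mul_apply, t'.H_E ih.1]
          congr 1; push_cast; ring
        · rw [pow_succ', Module.End.mul_apply, t'.casimir_E, ih.2]
          simp only [pow_succ', Module.End.mul_apply]
    have hC'y : t'.casimir y = 0 := by
      rw [t'.casimir_apply]
      show -(t.H (-(t.H y))) + (2 : k) • -(t.H y) + (4 : k) • t.E (t.F y) = 0
      rw [h2, hwy, map_neg, map_smul, hwy]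
      module
    obtain ⟨hq1, hq2⟩ := hqw q
    rw [hC'y] at hq2
    simp only [map_zero] at hq2
    have hqtop : t'.E ((t'.E ^ q) (t.F y)) = 0 := by
      rw [← Module.End.mul_apply, ← pow_succ', ← hq]; exact Nat.find_spec hex
    rw [t'.casimir_apply, hqtop, map_zero, smul_zero, add_zero, hq1, map_smul, hq1, smul_smul,
      smul_smul, ← add_smul] at hq2
    rcases smul_eq_zero.mp hq2 with h5 | h5
    · have : (((4 + 2 * q) * (4 + 2 * q) + 2 * (4 + 2 * q) : ℕ) : k) = 0 := by
        push_cast at h5 ⊢; linear_combination h5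
      have := Nat.cast_eq_zero.mp this
      omega
    · exact hqne h5

theorem Triple.inv_le_ker_casimir : t.inv ≤ LinearMap.ker t.casimir := fun x hx => by
  obtain ⟨h1, h2, -⟩ := t.mem_inv.mp hx
  rw [LinearMap.mem_ker, t.casimir_apply, h1, h2]
  simp

omit [CharZero k] in
theorem Triple.mem_ker_of_components (t : Triple k W) (A : Module.End k W) (c : k)
    (hA : ∀ (x : W) (μ : k), t.H x = μ • x → t.H (A x) = (μ + c) • A x)
    (s : Finset ℤ) (f : ℤ → W) (hf : ∀ r ∈ s, t.H (f r) = (r : k) • f r) [CharZero k]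
    (h0 : A (∑ r ∈ s, f r) = 0) : ∀ r ∈ s, A (f r) = 0 := by
  classical
  have hind := (Module.End.eigenspaces_iSupIndep t.H).comp
    (f := fun r : ℤ => (r : k) + c) (fun a b h => Int.cast_injective (add_right_cancel h))
  rw [map_sum] at h0
  intro r hr
  exact (iSupIndep_iff_finset_sum_eq_zero_imp_eq_zero _).mp hind s (fun r => A (f r))
    (fun r hr => Module.End.mem_eigenspace_iff.mpr (hA _ _ (hf r hr))) h0 r hr

omit [CharZero k] in
theorem Triple.exists_components (hs : t.Spans) (x : W) :
    ∃ (s : Finset ℤ) (f : ℤ → W), (∀ r ∈ s, t.H (f r) = (r : k) • f r) ∧ ∑ r ∈ s, f r = x := by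
  have hx : x ∈ ⨆ r : ℤ, Module.End.eigenspace t.H (r : k) := by rw [hs]; trivial
  rw [Submodule.mem_iSup_iff_exists_finsupp] at hx
  obtain ⟨f, hf, hfx⟩ := hx
  exact ⟨f.support, f, fun r _ => Module.End.mem_eigenspace_iff.mp (hf r), hfx⟩

theorem Triple.ker_casimir [FiniteDimensional k W] (hs : t.Spans) :
    LinearMap.ker t.casimir = t.inv := by
  refine le_antisymm (fun x hx => ?_) t.inv_le_ker_casimir
  obtain ⟨s, f, hf, rfl⟩ := t.exists_components hs x
  have hC : ∀ (x : W) (μ : k), t.H x = μ • x → t.H (t.casimir x) = (μ + 0) • t.casimir x := by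
    intro x μ h
    have hFE : t.H (t.F (t.E x)) = μ • t.F (t.E x) := by
      rw [t.H_F (t.H_E h)]; congr 1; ring
    rw [add_zero, t.casimir_apply]
    simp only [h, map_add, map_smul, hFE]
    module
  have h0 := t.mem_ker_of_components t.casimir 0 hC s f hf hx
  refine t.inv.sum_mem fun r hr => ?_
  rcases t.eq_zero_of_casimir (hf r hr) (h0 r hr) with ⟨-, h⟩ | h
  · exact h
  · rw [h]; exact zero_mem _

theorem Triple.eq_zero_of_inv_of_range [FiniteDimensional k W] (hs : t.Spans) {b : W}
    (hx : t.casimir b ∈ t.inv) : t.casimir b = 0 := by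
  have hk := t.ker_casimir hs
  obtain ⟨hEx, hHx, hFx⟩ := t.mem_inv.mp hx
  -- `C (E b) = E (C b) = 0`
  have hEb : t.E b ∈ t.inv := by
    rw [← hk, LinearMap.mem_ker, t.casimir_E, hEx]
  obtain ⟨-, hHEb, hFEb⟩ := t.mem_inv.mp hEb
  have hb : t.casimir b = t.H (t.H b) + (2 : k) • t.H b := by
    rw [t.casimir_apply, hFEb, smul_zero, add_zero]
  obtain ⟨s, f, hf, rfl⟩ := t.exists_components hs b
  rw [hb] at hHx ⊢
  -- weight zero part of `(H² + 2H) b` vanishes
  have hpoly : ∀ (p : Module.End k W) (q : k → k),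
      (∀ (z : W) (μ : k), t.H z = μ • z → p z = q μ • z) →
      p (∑ r ∈ s, f r) = ∑ r ∈ s, q r • f r := fun p q hp => by
    rw [map_sum]
    exact Finset.sum_congr rfl fun r hr => hp _ _ (hf r hr)
  let p1 : Module.End k W := t.H * t.H + (2 : k) • t.H
  have h1 : t.H (p1 (∑ r ∈ s, f r)) = 0 := hHx
  have h2 := t.mem_ker_of_components (t.H * p1) 0 (fun z μ hz => by
    simp only [p1, Module.End.mul_apply, LinearMap.add_apply, LinearMap.smul_apply, hz, map_smul,
      map_add, add_zero]
    module) s f hf h1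
  show p1 (∑ r ∈ s, f r) = 0
  rw [hpoly p1 (fun μ => μ * μ + 2 * μ) (fun z μ hz => by
    simp only [p1, LinearMap.add_apply, Module.End.mul_apply, LinearMap.smul_apply, hz, map_smul,
      smul_smul]
    rw [← add_smul])]
  refine Finset.sum_eq_zero fun r hr => ?_
  have h3 := h2 r hr
  simp only [p1, Module.End.mul_apply, LinearMap.add_apply, LinearMap.smul_apply, hf r hr,
    map_smul, map_add, smul_smul] at h3
  rw [← add_smul] at h3
  rcases smul_eq_zero.mp h3 with h4 | h4
  · rcases eq_or_ne (r : k) 0 with h5 | h5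
    · rw [h5]; simp
    · have : (r : k) * (r : k) + 2 * (r : k) = 0 := by
        refine (mul_eq_zero.mp (?_ : (r : k) * ((r : k) * (r : k) + 2 * (r : k)) = 0)).resolve_left h5
        linear_combination h4
      rw [this, zero_smul]
  · rw [h4, smul_zero]

theorem Triple.exists_inv_add_casimir [FiniteDimensional k W] (hs : t.Spans) (a : W) :
    ∃ i ∈ t.inv, ∃ b, a = i + t.casimir b := by
  have hk := t.ker_casimir hs
  have hdis : Disjoint (LinearMap.ker t.casimir) (LinearMap.range t.casimir) := by
    rw [Submodule.disjoint_def]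
    rintro x hx ⟨b, rfl⟩
    exact t.eq_zero_of_inv_of_range hs (hk ▸ hx)
  have htop : LinearMap.ker t.casimir ⊔ LinearMap.range t.casimir = ⊤ :=
    Submodule.eq_top_of_disjoint _ _
      (le_of_eq (by rw [add_comm]; exact (LinearMap.finrank_range_add_finrank_ker t.casimir).symm)) hdis
  obtain ⟨i, hi, y, ⟨b, rfl⟩, h⟩ := Submodule.mem_sup.mp
    (show a ∈ LinearMap.ker t.casimir ⊔ LinearMap.range t.casimir by
      rw [htop]; trivial)
  exact ⟨i, hk ▸ hi, b, h.symm⟩

end Groth.Agent.H7Weitz
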