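import Groth.Agent.H7Weitz.Chain
import Groth.Agent.H7Weitz.Poly

/-!
Weitzenböck: the kernel of a linear nilpotent derivation is finitely generated.
-/

set_option autoImplicit false
universe u

namespace Groth.Agent.H7Weitz
open MvPolynomial

variable {k : Type u} [Field k] {σ : Type} [Fintype σ] [DecidableEq σ]

omit [DecidableEq σ] in
/-- add the standard representation (`u` raised to `0`, `w` raised to `u`). -/
noncomputable def Triple.addStd (t : Triple k (σ → k)) : Triple k (σ ⊕ Fin 2 → k) where
  E := LinearMap.pi fun p => p.elim (fun i => LinearMap.proj i ∘ₗ t.E ∘ₗ LinearMap.funLeft k k Sum.inl)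
    ![LinearMap.proj (Sum.inr 1), 0]
  H := LinearMap.pi fun p => p.elim (fun i => LinearMap.proj i ∘ₗ t.H ∘ₗ LinearMap.funLeft k k Sum.inl)
    ![LinearMap.proj (Sum.inr 0), -LinearMap.proj (Sum.inr 1)]
  F := LinearMap.pi fun p => p.elim (fun i => LinearMap.proj i ∘ₗ t.F ∘ₗ LinearMap.funLeft k k Sum.inl)
    ![0, LinearMap.proj (Sum.inr 0)]
  he x := funext fun p => by
    rcases p with i | i
    · exact congrFun (t.he (x ∘ Sum.inl)) i
    · fin_cases i <;> simp [LinearMap.pi_apply, LinearMap.funLeft] <;> ring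
  hf x := funext fun p => by
    rcases p with i | i
    · exact congrFun (t.hf (x ∘ Sum.inl)) i
    · fin_cases i <;> simp [LinearMap.pi_apply, LinearMap.funLeft] <;> ring
  ef x := funext fun p => by
    rcases p with i | i
    · exact congrFun (t.ef (x ∘ Sum.inl)) i
    · fin_cases i <;> simp [LinearMap.pi_apply, LinearMap.funLeft]

omit [Fintype σ] [DecidableEq σ] in
theorem Triple.addStd_spans (t : Triple k (σ → k)) (hs : t.Spans) : t.addStd.Spans := by
  refine eq_top_iff.mpr fun x _ => ?_
  have hx : x = (fun p => Sum.elim (x ∘ Sum.inl) ![0, 0] p) +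
      (fun p => Sum.elim (0 : σ → k) ![x (Sum.inr 0), 0] p) + fun p => Sum.elim (0 : σ → k) ![0, x (Sum.inr 1)] p := by
    funext p
    rcases p with i | i
    · simp
    · fin_cases i <;> simp
  rw [hx]
  refine add_mem (add_mem ?_ ?_) ?_
  · have hv : x ∘ Sum.inl ∈ ⨆ r : ℤ, Module.End.eigenspace t.H (r : k) := by rw [hs]; trivial
    refine Submodule.iSup_induction _ (motive := fun v => (fun p => Sum.elim v ![0, 0] p) ∈
      ⨆ r : ℤ, Module.End.eigenspace t.addStd.H (r : k)) hv (fun r v hv => ?_) ?_ ?_
    · refine Submodule.mem_iSup_of_mem r (Module.End.mem_eigenspace_iff.mpr (funext fun p => ?_))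
      rcases p with i | i
      · exact congrFun (Module.End.mem_eigenspace_iff.mp hv) i
      · fin_cases i <;> simp [Triple.addStd]
    · convert Submodule.zero_mem _ using 1
      funext p
      rcases p with i | i
      · simp
      · fin_cases i <;> simp
    · intro a b ha hb
      convert add_mem ha hb using 1
      funext p
      rcases p with i | i
      · simp
      · fin_cases i <;> simp
  · refine Submodule.mem_iSup_of_mem 1 (Module.End.mem_eigenspace_iff.mpr (funext fun p => ?_))
    rcases p with i | i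
    · show t.H 0 i = _; simp
    · fin_cases i <;> simp [Triple.addStd]
  · refine Submodule.mem_iSup_of_mem (-1) (Module.End.mem_eigenspace_iff.mpr (funext fun p => ?_))
    rcases p with i | i
    · show t.H 0 i = _; simp
    · fin_cases i <;> simp [Triple.addStd]

variable (t : Triple k (σ → k))

/-- invariant polynomials. -/
noncomputable def invAlg : Subalgebra k (MvPolynomial σ k) where
  carrier := {x | der t.E x = 0 ∧ der t.H x = 0 ∧ der t.F x = 0}
  mul_mem' := by
    rintro a b ⟨a1, a2, a3⟩ ⟨b1, b2, b3⟩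
    refine ⟨?_, ?_, ?_⟩ <;> simp [Derivation.leibniz, *]
  add_mem' := by
    rintro a b ⟨a1, a2, a3⟩ ⟨b1, b2, b3⟩
    refine ⟨?_, ?_, ?_⟩ <;> simp [*]
  algebraMap_mem' c := ⟨by simp, by simp, by simp⟩

theorem casimir_smul_inv {g : MvPolynomial σ k} (hg : g ∈ invAlg t) (b : MvPolynomial σ k) :
    t.poly.casimir (g * b) = g * t.poly.casimir b := by
  obtain ⟨hE, hH, hF⟩ := hg
  have h1 : ∀ y, t.poly.E (g * y) = g * t.poly.E y := fun y => by
    show der t.E (g * y) = g * der t.E y
    simp [Derivation.leibniz, hE]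
  have h2 : ∀ y, t.poly.H (g * y) = g * t.poly.H y := fun y => by
    show der t.H (g * y) = g * der t.H y
    simp [Derivation.leibniz, hH]
  have h3 : ∀ y, t.poly.F (g * y) = g * t.poly.F y := fun y => by
    show der t.F (g * y) = g * der t.F y
    simp [Derivation.leibniz, hF]
  simp only [t.poly.casimir_apply, h1, h2, h3, mul_add, mul_smul_comm]

theorem homogeneousComponent_mem_invAlg {x : MvPolynomial σ k} (hx : x ∈ invAlg t) (d : ℕ) :
    homogeneousComponent d x ∈ invAlg t := by
  obtain ⟨h1, h2, h3⟩ := hx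
  refine ⟨?_, ?_, ?_⟩ <;> rw [← der_homogeneousComponent, ‹der _ x = 0›, map_zero]

variable [CharZero k]

theorem invAlg_fg (hs : t.Spans) : (invAlg t).FG := by
  classical
  let G0 : Set (MvPolynomial σ k) := {x | x ∈ invAlg t ∧ ∃ d, 0 < d ∧ x.IsHomogeneous d}
  obtain ⟨G, hGsub, hGspan⟩ := (Submodule.fg_span_iff_fg_span_finset_subset G0).mp
    (IsNoetherian.noetherian (Ideal.span G0 : Submodule (MvPolynomial σ k) (MvPolynomial σ k)))
  have hdeg : ∀ g : G, ∃ d, 0 < d ∧ (g : MvPolynomial σ k).IsHomogeneous d :=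
    fun g => (hGsub g.2).2
  choose dg hdg hdg' using hdeg
  refine ⟨G, le_antisymm (Algebra.adjoin_le fun g hg => (hGsub hg).1) ?_⟩
  have key : ∀ d : ℕ, ∀ x ∈ invAlg t, x.IsHomogeneous d →
      x ∈ Algebra.adjoin k (G : Set (MvPolynomial σ k)) := by
    intro d
    induction d using Nat.strong_induction_on with
    | _ d ih =>
      intro x hx hxd
      rcases Nat.eq_zero_or_pos d with rfl | hd
      · rw [show x = C (coeff 0 x) from
          ((homogeneousComponent_zero (φ := x)).symm.trans
            (by rw [homogeneousComponent_of_mem hxd, if_pos rfl])).symm]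
        exact Subalgebra.algebraMap_mem _ _
      · have hxG : x ∈ Submodule.span (MvPolynomial σ k) (G : Set (MvPolynomial σ k)) := by
          rw [← hGspan]
          exact Submodule.subset_span ⟨hx, d, hd, hxd⟩
        obtain ⟨a, -, ha⟩ := Submodule.mem_span_finset.mp hxG
        -- graded coefficients, split by the Casimir operator
        have hsplit : ∀ (g : G), ∃ i : MvPolynomial σ k, i ∈ invAlg t ∧
            i.IsHomogeneous (d - dg g) ∧ ∃ b : MvPolynomial σ k, b.IsHomogeneous (d - dg g) ∧
            homogeneousComponent (d - dg g) (a g) = i + t.poly.casimir b := by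
          intro g
          obtain ⟨i, hi, b, hab⟩ := (t.piece (d - dg g)).exists_inv_add_casimir
            (t.piece_spans hs _) ⟨_, homogeneousComponent_mem (d - dg g) (a g)⟩
          obtain ⟨h1, h2, h3⟩ := (t.piece _).mem_inv.mp hi
          exact ⟨i.1, ⟨congrArg Subtype.val h1, congrArg Subtype.val h2, congrArg Subtype.val h3⟩,
            i.2, b.1, b.2, congrArg Subtype.val hab⟩
        choose i hi hid b hbd hb using hsplit
        let sel := G.attach.filter fun g => dg g ≤ d
        have hx1 : x = ∑ g ∈ sel, homogeneousComponent (d - dg g) (a g) * g.1 := by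
          conv_lhs => rw [show x = homogeneousComponent d x by
            rw [homogeneousComponent_of_mem hxd, if_pos rfl], ← ha, map_sum, ← Finset.sum_attach]
          rw [Finset.sum_filter]
          refine Finset.sum_congr rfl fun g _ => ?_
          rw [smul_eq_mul]
          conv_lhs => rw [← sum_homogeneousComponent (a g.1), Finset.sum_mul, map_sum]
          simp only [fun j => homogeneousComponent_of_mem (m := d)
            ((homogeneousComponent_isHomogeneous j (a g.1)).mul (hdg' g))]
          split_ifs with hle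
          · rw [Finset.sum_eq_single (d - dg g)]
            · rw [if_pos (by omega)]
            · intro j _ hj; rw [if_neg (by omega)]
            · intro hj
              rw [homogeneousComponent_eq_zero _ _ (by rw [Finset.mem_range] at hj; omega), zero_mul,
                ite_self]
          · refine Finset.sum_eq_zero fun j _ => if_neg (by omega)
        -- the image part vanishes
        have hy : (∑ g ∈ sel, b g * g.1).IsHomogeneous d := IsHomogeneous.sum _ _ _ fun g hg => by
          have := (hbd g).mul (hdg' g)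
          rwa [Nat.sub_add_cancel (Finset.mem_filter.mp hg).2] at this
        have hCy : t.poly.casimir (∑ g ∈ sel, b g * g.1) = x - ∑ g ∈ sel, i g * g.1 := by
          rw [map_sum, eq_sub_iff_add_eq, ← Finset.sum_add_distrib]
          conv_rhs => rw [hx1]
          refine Finset.sum_congr rfl fun g _ => ?_
          rw [mul_comm (b g), casimir_smul_inv t (hGsub g.2).1, hb g]
          ring
        have hinv : x - ∑ g ∈ sel, i g * g.1 ∈ invAlg t :=
          sub_mem hx (Subalgebra.sum_mem _ fun g _ => mul_mem (hi g) (hGsub g.2).1)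
        have hzero : x - ∑ g ∈ sel, i g * g.1 = 0 := by
          have hCCy : (t.piece d).casimir ((t.piece d).casimir
              ⟨∑ g ∈ sel, b g * g.1, hy⟩) = 0 := by
            refine Subtype.ext ?_
            show t.poly.casimir (t.poly.casimir (∑ g ∈ sel, b g * g.1)) = 0
            rw [hCy]
            obtain ⟨h1, h2, -⟩ := hinv
            have e1 : t.poly.E (x - ∑ g ∈ sel, i g * g.1) = 0 := h1
            have e2 : t.poly.H (x - ∑ g ∈ sel, i g * g.1) = 0 := h2
            rw [t.poly.casimir_apply, e1, e2]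
            simp
          have hk := (t.piece d).ker_casimir (t.piece_spans hs d)
          have hCinv : (t.piece d).casimir ⟨∑ g ∈ sel, b g * g.1, hy⟩ ∈ (t.piece d).inv := by
            rw [← hk]; exact LinearMap.mem_ker.mpr hCCy
          have h7 := (t.piece d).eq_zero_of_inv_of_range (t.piece_spans hs d) hCinv
          rw [← hCy]
          exact congrArg Subtype.val h7
        rw [sub_eq_zero.mp hzero]
        refine Subalgebra.sum_mem _ fun g hg => mul_mem ?_ (Algebra.subset_adjoin g.2)
        refine ih _ ?_ _ (hi g) (hid g)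
        have := hdg g; omega
  intro x hx
  rw [← sum_homogeneousComponent x]
  exact Subalgebra.sum_mem _ fun d _ =>
    key d _ (homogeneousComponent_mem_invAlg t hx d) (homogeneousComponent_isHomogeneous d x)

/-- drop the standard representation: `u ↦ 0`, `w ↦ 1`. -/
noncomputable def dropStd : MvPolynomial (σ ⊕ Fin 2) k →ₐ[k] MvPolynomial σ k :=
  aeval (Sum.elim X ![0, 1])

omit [CharZero k] in
theorem dropStd_derE (x : MvPolynomial (σ ⊕ Fin 2) k) :
    dropStd (der t.addStd.E x) = der t.E (dropStd x) := by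
  induction x using MvPolynomial.induction_on with
  | C c => simp [dropStd]
  | add p q hp hq => simp [hp, hq]
  | mul_X p j hp =>
    have hj : dropStd (der t.addStd.E (X j)) = der t.E (dropStd (X j : MvPolynomial (σ ⊕ Fin 2) k)) := by
      rw [der_X, lin_apply, Fintype.sum_sum_type, map_add, map_sum, map_sum]
      simp only [dropStd, map_smul, aeval_X, Sum.elim_inl, Sum.elim_inr]
      rcases j with j | j
      · simp only [Sum.elim_inl, der_X, lin_apply]
        have : ∀ a : Fin 2, t.addStd.E (Pi.single (Sum.inl j) 1) (Sum.inr a) = 0 := fun a => by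
          fin_cases a <;> simp [Triple.addStd]
        simp only [this, zero_smul, Finset.sum_const_zero, add_zero]
        refine Finset.sum_congr rfl fun i _ => ?_
        congr 1
        show t.E ((Pi.single (Sum.inl j) (1 : k) : σ ⊕ Fin 2 → k) ∘ Sum.inl) i = _
        rw [show ((Pi.single (Sum.inl j) (1 : k) : σ ⊕ Fin 2 → k) ∘ Sum.inl) = Pi.single j 1 from
          funext fun l => by simp [Pi.single_apply]]
      · have hz : ((Pi.single (Sum.inr j) (1 : k) : σ ⊕ Fin 2 → k) ∘ Sum.inl) = 0 := by
          funext l; simp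
        have : ∀ i : σ, t.addStd.E (Pi.single (Sum.inr j) 1) (Sum.inl i) = 0 := fun i => by
          show t.E ((Pi.single (Sum.inr j) (1 : k) : σ ⊕ Fin 2 → k) ∘ Sum.inl) i = 0
          rw [hz]; simp
        simp only [this, zero_smul, Finset.sum_const_zero, zero_add, Fin.sum_univ_two]
        fin_cases j <;> simp [Triple.addStd]
    simp only [Derivation.leibniz, map_add, map_mul, smul_eq_mul, hp, hj]

omit [CharZero k] in
theorem derivation_string {A : Type u} [CommRing A] [Algebra k A] (D : Derivation k A A)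
    (N : ℕ) (c : ℕ → k) (a : ℕ → A) (β : ℕ → A) :
    D (∑ i ∈ Finset.range (N + 1), c i • (a i * β i)) =
      ∑ i ∈ Finset.range (N + 1), (c i • (β i * D (a i)) + c i • (a i * D (β i))) := by
  rw [map_sum]
  refine Finset.sum_congr rfl fun i _ => ?_
  rw [D.map_smul, D.leibniz, smul_eq_mul, smul_eq_mul, ← smul_add, add_comm]

omit [CharZero k] in
theorem dropStd_rename (p : MvPolynomial σ k) : dropStd (rename Sum.inl p) = p := by
  rw [dropStd, aeval_rename]
  simp [aeval_X_left_apply]

theorem der_rename (g : Module.End k (σ → k)) (g' : Module.End k (σ ⊕ Fin 2 → k))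
    (h : ∀ j, lin (g' (Pi.single (Sum.inl j) 1)) = rename Sum.inl (lin (g (Pi.single j 1))))
    (p : MvPolynomial σ k) : der g' (rename Sum.inl p) = rename Sum.inl (der g p) := by
  induction p using MvPolynomial.induction_on with
  | C c => simp
  | add p q hp hq => simp [hp, hq]
  | mul_X p j hp =>
    simp only [map_mul, rename_X, Derivation.leibniz, map_add, smul_eq_mul, hp, der_X, h]

/-- a highest weight vector of weight `N` lifts to an invariant. -/
theorem exists_lift {f : MvPolynomial σ k} {N : ℕ} (hE : der t.E f = 0)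
    (hH : t.poly.H f = (N : k) • f) (hF : (t.poly.F ^ (N + 1)) f = 0) :
    ∃ Ψ ∈ invAlg t.addStd, dropStd Ψ = f := by
  classical
  let u : MvPolynomial (σ ⊕ Fin 2) k := X (Sum.inr 0)
  let w : MvPolynomial (σ ⊕ Fin 2) k := X (Sum.inr 1)
  let c : ℕ → k := fun i => (-1) ^ i / (i.factorial : k)
  let a : ℕ → MvPolynomial (σ ⊕ Fin 2) k := fun i => rename Sum.inl ((t.poly.F ^ i) f)
  let β : ℕ → MvPolynomial (σ ⊕ Fin 2) k := fun i => u ^ i * w ^ (N - i)
  let Ψ := ∑ i ∈ Finset.range (N + 1), c i • (a i * β i)
  have hstd : ∀ (j : Fin 2) (g : Module.End k (σ ⊕ Fin 2 → k)) (v0 v1 : k)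
      (_ : g (Pi.single (Sum.inr j) 1) = Sum.elim (0 : σ → k) ![v0, v1]),
      der g (X (Sum.inr j)) = v0 • u + v1 • w := by
    intro j g v0 v1 hg
    rw [der_X, hg, lin_apply, Fintype.sum_sum_type, Fin.sum_univ_two]
    simp [u, w]
  have hz : ∀ j : Fin 2, ((Pi.single (Sum.inr j) (1 : k) : σ ⊕ Fin 2 → k) ∘ Sum.inl) = 0 := by
    intro j; funext l; simp
  have hEu : der t.addStd.E u = 0 := by
    refine (hstd 0 _ 0 0 ?_).trans (by simp)
    funext p; rcases p with l | l
    · show t.E ((Pi.single (Sum.inr 0) (1 : k) : σ ⊕ Fin 2 → k) ∘ Sum.inl) l = _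
      rw [hz]; simp
    · fin_cases l <;> simp [Triple.addStd]
  have hEw : der t.addStd.E w = u := by
    refine (hstd 1 _ 1 0 ?_).trans (by simp)
    funext p; rcases p with l | l
    · show t.E ((Pi.single (Sum.inr 1) (1 : k) : σ ⊕ Fin 2 → k) ∘ Sum.inl) l = _
      rw [hz]; simp
    · fin_cases l <;> simp [Triple.addStd]
  have hFu : der t.addStd.F u = w := by
    refine (hstd 0 _ 0 1 ?_).trans (by simp)
    funext p; rcases p with l | l
    · show t.F ((Pi.single (Sum.inr 0) (1 : k) : σ ⊕ Fin 2 → k) ∘ Sum.inl) l = _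
      rw [hz]; simp
    · fin_cases l <;> simp [Triple.addStd]
  have hFw : der t.addStd.F w = 0 := by
    refine (hstd 1 _ 0 0 ?_).trans (by simp)
    funext p; rcases p with l | l
    · show t.F ((Pi.single (Sum.inr 1) (1 : k) : σ ⊕ Fin 2 → k) ∘ Sum.inl) l = _
      rw [hz]; simp
    · fin_cases l <;> simp [Triple.addStd]
  have hlift : ∀ (g : Module.End k (σ → k)) (g' : Module.End k (σ ⊕ Fin 2 → k)),
      (∀ v i, g' v (Sum.inl i) = g (v ∘ Sum.inl) i) →
      (∀ v l, v ∘ Sum.inr = 0 → g' v (Sum.inr l) = 0) →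
      ∀ p, der g' (rename Sum.inl p) = rename Sum.inl (der g p) := by
    intro g g' h1 h2
    refine der_rename g g' fun j => ?_
    rw [lin_apply, lin_apply, map_sum, Fintype.sum_sum_type]
    have hr : ((Pi.single (Sum.inl j) (1 : k) : σ ⊕ Fin 2 → k) ∘ Sum.inr) = 0 := by funext l; simp
    have hl : ((Pi.single (Sum.inl j) (1 : k) : σ ⊕ Fin 2 → k) ∘ Sum.inl) = Pi.single j 1 := by
      funext l; simp [Pi.single_apply]
    simp only [h2 _ _ hr, zero_smul, Finset.sum_const_zero, add_zero, h1, hl, map_smul, rename_X]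
  have hvr : ∀ (v : σ ⊕ Fin 2 → k), v ∘ Sum.inr = 0 → ∀ l, v (Sum.inr l) = 0 :=
    fun v h l => congrFun h l
  have hEren := hlift t.E t.addStd.E (fun v i => rfl) (fun v l h => by
    fin_cases l <;> simp [Triple.addStd, hvr v h])
  have hFren := hlift t.F t.addStd.F (fun v i => rfl) (fun v l h => by
    fin_cases l <;> simp [Triple.addStd, hvr v h])
  have hc : ∀ i : ℕ, c (i + 1) * (i + 1) + c i = 0 := by
    intro i
    have h1 : ((i.factorial : ℕ) : k) ≠ 0 := by exact_mod_cast i.factorial_ne_zero
    have h2 : ((i : k) + 1) ≠ 0 := Nat.cast_add_one_ne_zero i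
    simp only [c, Nat.factorial_succ, Nat.cast_mul, pow_succ]
    push_cast
    field_simp
    ring
  have hEa : ∀ i, der t.addStd.E (a (i + 1)) = ((i + 1 : k) * ((N : k) - i)) • a i := by
    intro i
    rw [hEren]
    show rename Sum.inl (t.poly.E ((t.poly.F ^ (i + 1)) f)) = _
    rw [(t.poly.E_pow_F hH hE i).1, map_smul]
  have hEa0 : der t.addStd.E (a 0) = 0 := by
    simp only [a, pow_zero, Module.End.one_apply, hEren, hE, map_zero]
  have hFa : ∀ i, der t.addStd.F (a i) = a (i + 1) := by
    intro i
    rw [hFren]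
    show rename Sum.inl (t.poly.F ((t.poly.F ^ i) f)) = _
    rw [← Module.End.mul_apply, ← pow_succ']
  have hEβ : ∀ i, der t.addStd.E (β i) = ((N - i : ℕ) : k) • (u ^ (i + 1) * w ^ (N - i - 1)) := by
    intro i
    simp only [β, Derivation.leibniz, Derivation.leibniz_pow, hEu, hEw, smul_eq_mul, smul_zero,
      mul_zero, nsmul_eq_mul, Algebra.smul_def, map_natCast, eq_natCast]
    ring
  have hFβ : ∀ i, der t.addStd.F (β i) = (i : k) • (u ^ (i - 1) * w ^ (N - i + 1)) := by
    intro i
    simp only [β, Derivation.leibniz, Derivation.leibniz_pow, hFu, hFw, smul_eq_mul, smul_zero,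
      mul_zero, nsmul_eq_mul, Algebra.smul_def, map_natCast, eq_natCast]
    ring
  have hEΨ : der t.addStd.E Ψ = 0 := by
    simp only [Ψ, derivation_string _ N c a β, Finset.sum_add_distrib]
    rw [Finset.sum_range_succ' (fun i => c i • (β i * der t.addStd.E (a i))),
      Finset.sum_range_succ (fun i => c i • (a i * der t.addStd.E (β i))), hEa0, hEβ N, Nat.sub_self,
      Nat.cast_zero, zero_smul, mul_zero, smul_zero, mul_zero, smul_zero, add_zero, add_zero,
      ← Finset.sum_add_distrib]
    refine Finset.sum_eq_zero fun i hi => ?_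
    rw [Finset.mem_range] at hi
    rw [hEa i, hEβ i, mul_smul_comm, mul_smul_comm, smul_smul, smul_smul]
    have hβ : β (i + 1) * a i = a i * (u ^ (i + 1) * w ^ (N - i - 1)) := by
      simp only [β, show N - (i + 1) = N - i - 1 by omega]; ring
    rw [hβ, ← add_smul]
    have hcast : ((N - i : ℕ) : k) = (N : k) - i := Nat.cast_sub (by omega)
    rw [hcast, show c (i + 1) * ((i + 1 : k) * ((N : k) - i)) + c i * ((N : k) - i) =
      (c (i + 1) * (i + 1) + c i) * ((N : k) - i) by ring, hc, zero_mul, zero_smul]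
  have hFΨ : der t.addStd.F Ψ = 0 := by
    simp only [Ψ, derivation_string _ N c a β, Finset.sum_add_distrib]
    have hlast : a (N + 1) = 0 := by simp only [a, hF, map_zero]
    rw [Finset.sum_range_succ (fun i => c i • (β i * der t.addStd.F (a i))),
      Finset.sum_range_succ' (fun i => c i • (a i * der t.addStd.F (β i))), hFa N, hlast, hFβ 0,
      Nat.cast_zero, zero_smul, mul_zero, smul_zero, mul_zero, smul_zero, add_zero, add_zero,
      ← Finset.sum_add_distrib]
    refine Finset.sum_eq_zero fun i hi => ?_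
    rw [Finset.mem_range] at hi
    rw [hFa i, hFβ (i + 1), mul_smul_comm, smul_smul]
    have hβ : β i * a (i + 1) = a (i + 1) * (u ^ (i + 1 - 1) * w ^ (N - (i + 1) + 1)) := by
      simp only [β, show N - (i + 1) + 1 = N - i by omega, Nat.add_sub_cancel]; ring
    rw [hβ, ← add_smul, Nat.cast_add, Nat.cast_one, add_comm, hc, zero_smul]
  have hHΨ : der t.addStd.H Ψ = 0 := by
    have h := t.addStd.poly.ef Ψ
    have e1 : t.addStd.poly.F Ψ = 0 := hFΨ
    have e2 : t.addStd.poly.E Ψ = 0 := hEΨ
    rw [e1, e2, map_zero, map_zero, zero_add] at h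
    exact h.symm
  refine ⟨Ψ, ⟨hEΨ, hHΨ, hFΨ⟩, ?_⟩
  simp only [Ψ, map_sum, map_smul, map_mul, β, map_pow]
  rw [Finset.sum_eq_single 0]
  · have hu : dropStd w = (1 : MvPolynomial σ k) := by simp [w, dropStd]
    simp [c, a, dropStd_rename, hu]
  · intro i _ hi
    simp [u, dropStd, zero_pow hi]
  · simp

/-- Weitzenböck's theorem. -/
theorem fg_ker_der (N : Module.End k (σ → k)) (hN : IsNilpotent N) :
    ∃ S : Subalgebra k (MvPolynomial σ k), S.FG ∧ ∀ f, f ∈ S ↔ der N f = 0 := by
  classical
  obtain ⟨t, rfl, hs⟩ := exists_triple N hN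
  refine ⟨(invAlg t.addStd).map dropStd, (invAlg_fg _ (t.addStd_spans hs)).map _, fun f => ⟨?_, ?_⟩⟩
  · rintro ⟨Ψ, hΨ, rfl⟩
    show der t.E (dropStd Ψ) = 0
    rw [← dropStd_derE, hΨ.1, map_zero]
  · intro hf
    rw [← sum_homogeneousComponent f]
    refine Subalgebra.sum_mem _ fun d _ => ?_
    have hfd : der t.E (homogeneousComponent d f) = 0 := by
      rw [← der_homogeneousComponent, hf, map_zero]
    let x : homogeneousSubmodule σ k d := ⟨_, homogeneousComponent_mem d f⟩
    obtain ⟨s, g, hg, hx⟩ := (t.piece d).exists_components (t.piece_spans hs d) x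
    have hEg := (t.piece d).mem_ker_of_components (t.piece d).E 2
      (fun z μ hz => (t.piece d).H_E hz) s g hg (Subtype.ext (by rw [hx]; exact hfd))
    have hx' : homogeneousComponent d f = ∑ r ∈ s, (g r).1 := by
      rw [← Submodule.coe_sum, hx]
    rw [hx']
    refine Subalgebra.sum_mem _ fun r hr => ?_
    by_cases h0 : g r = 0
    · rw [h0]; exact Subalgebra.zero_mem _
    obtain ⟨N', hN', hFN'⟩ := (t.piece d).exists_nat_weight h0 (hg r hr) (hEg r hr)
    have hpow : ∀ (j : ℕ), ((((t.piece d).F) ^ j) (g r)).1 = (t.poly.F ^ j) (g r).1 := by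
      intro j
      induction j with
      | zero => rfl
      | succ j ih => rw [pow_succ', Module.End.mul_apply, pow_succ', Module.End.mul_apply, ← ih]; rfl
    obtain ⟨Ψ, hΨ, hΨf⟩ := exists_lift t (f := (g r).1) (N := N')
      (congrArg Subtype.val (hEg r hr)) (by rw [← hN']; exact congrArg Subtype.val (hg r hr))
      (by rw [← hpow, hFN']; rfl)
    exact ⟨Ψ, hΨ, hΨf⟩

end Groth.Agent.H7Weitz
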